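import Groth.Agent.ComodLib.Orbits
import Mathlib.RingTheory.Flat.Basic
import Mathlib.RingTheory.TensorProduct.Free

/-!
# Orbits of unipotent groups on affine schemes are closed, without finiteness hypotheses
-/

set_option linter.style.haveILetI false

universe u v w

open TensorProduct

namespace Groth.Agent.ComodLib

variable {k : Type u} [Field k] {A : Type u} [CommRing A] [HopfAlgebra k A]
variable {R : Type u} [CommRing R] [Algebra k R] [HopfRep.Comod k A R] [GLin.IsCoactAlg k A R]

open GLin (orbitHom)

/-- A nonzero left stable subspace of functions on a unipotent group contains the constants. -/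
theorem one_mem_of_subcomod (hU : HopfRep.IsUnipotent k A) (J : Submodule k A)
    (hJ : HopfRep.IsSubcomod (k := k) (A := A) J) (hne : J ≠ ⊥) : (1 : A) ∈ J := by
  obtain ⟨a, haJ, ha0⟩ := (Submodule.ne_bot_iff J).1 hne
  letI : HopfRep.Comod k A J := ComodSub.Comod.restr (HopfRep.Comod.regular k A) J hJ
  obtain ⟨U, hUf, haU, hUs⟩ := exists_finite_subcomod_mem (k := k) (C := A) (V := J) ⟨a, haJ⟩
  letI : HopfRep.Comod k A U := ComodSub.Comod.restr inferInstance U hUs
  haveI : Module.Finite k U := hUf
  haveI : Nontrivial U := ⟨⟨⟨a, haJ⟩, haU⟩, 0, fun h => ha0 (congrArg (fun z : U => ((z : J) : A)) h)⟩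
  obtain ⟨u, hu, hu0⟩ := (Submodule.ne_bot_iff _).1 (hU U ‹_› ‹_›)
  have h1 : HopfRep.Comod.coact (k := k) (A := A) (u : J) = (u : J) ⊗ₜ[k] (1 : A) := by
    rw [← ComodSub.restr_coact_coe inferInstance U hUs u]
    exact congrArg (U.subtype.rTensor A) hu
  have h2 : Coalgebra.comul (R := k) ((u : J) : A) = ((u : J) : A) ⊗ₜ[k] (1 : A) := by
    rw [show Coalgebra.comul (R := k) ((u : J) : A) = J.subtype.rTensor A (HopfRep.Comod.coact (k := k) (A := A) (u : J)) from
      (ComodSub.restr_coact_coe (HopfRep.Comod.regular k A) J hJ (u : J)).symm, h1]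
    rfl
  have h3 := congrArg (TensorProduct.lid k A) (Coalgebra.rTensor_counit_comul (R := k) ((u : J) : A))
  rw [h2, LinearMap.rTensor_tmul, TensorProduct.lid_tmul, TensorProduct.lid_tmul, one_smul] at h3
  have hc : Coalgebra.counit (R := k) ((u : J) : A) ≠ 0 := fun h0 => hu0 (Subtype.ext (Subtype.ext (by rw [← h3, h0, zero_smul]; rfl)))
  have := J.smul_mem (Coalgebra.counit (R := k) ((u : J) : A))⁻¹ (u : J).2
  rwa [(inv_smul_eq_iff₀ hc).2 h3.symm] at this

variable (A) in
/-- The orbit map of a point with values in an extension field. -/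
noncomputable def fieldOrbit {K : Type u} [Field K] [Algebra k K] (y : R →ₐ[k] K) : R →ₐ[k] K ⊗[k] A :=
  (Algebra.TensorProduct.map y (AlgHom.id k A)).comp (GLin.coactAlgHom k A R)

theorem fieldOrbit_apply {K : Type u} [Field K] [Algebra k K] (y : R →ₐ[k] K) (f : R) :
    fieldOrbit A y f = y.toLinearMap.rTensor A (HopfRep.Comod.coact (k := k) (A := A) f) := by
  show Algebra.TensorProduct.map y (AlgHom.id k A) (GLin.coactAlgHom k A R f) = _
  rw [show GLin.coactAlgHom k A R f = HopfRep.Comod.coact (k := k) (A := A) f from rfl]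
  induction HopfRep.Comod.coact (k := k) (A := A) f using TensorProduct.induction_on with
  | zero => simp
  | tmul a b => simp
  | add p q hp hq => simp only [map_add, hp, hq]

/-- For a point of the orbit closure of a unipotent group, the orbit map has the same kernel. -/
theorem ker_fieldOrbit (hU : HopfRep.IsUnipotent k A) (x : R →ₐ[k] k) {K : Type u} [Field K] [Algebra k K]
    (y : R →ₐ[k] K) (hy : RingHom.ker (orbitHom k A x) ≤ RingHom.ker y) :
    RingHom.ker (fieldOrbit A y) = RingHom.ker (orbitHom k A x) := by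
  set φ := orbitHom k A x with hφ
  set Φ := fieldOrbit A y with hΦ
  have hle : RingHom.ker φ ≤ RingHom.ker Φ := fun f hf => by
    obtain ⟨z, hz⟩ := isSubcomod_ker_orbitHom (A := A) x f hf
    rw [RingHom.mem_ker, hΦ, fieldOrbit_apply, ← hz]
    clear hz
    induction z using TensorProduct.induction_on with
    | zero => simp
    | tmul a b => simp [show y a.1 = 0 from hy a.2]
    | add p q hp hq => simp only [map_add, hp, hq, add_zero]
  refine le_antisymm (fun f hf => ?_) hle
  by_contra hfφ
  let J : Submodule k R := LinearMap.ker Φ.toLinearMap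
  have hJ : HopfRep.IsSubcomod (k := k) (A := A) J := fun g hg => by
    refine ((Module.Flat.rTensor_exact (M := A) (LinearMap.exact_subtype_ker_map Φ.toLinearMap)) _).1 ?_
    have hc := LinearMap.congr_fun (HopfRep.Comod.coassoc (k := k) (A := A) (V := R)) g
    simp only [LinearMap.comp_apply, LinearEquiv.coe_coe] at hc
    have key : ∀ z : R ⊗[k] A, TensorProduct.assoc k K A A (Φ.toLinearMap.rTensor A z) =
        y.toLinearMap.rTensor (A ⊗[k] A) (TensorProduct.assoc k R A A ((HopfRep.Comod.coact (k := k) (A := A)).rTensor A z)) := fun z => by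
      induction z using TensorProduct.induction_on with
      | zero => simp
      | add p q hp hq => simp only [map_add, hp, hq]
      | tmul a b =>
        rw [LinearMap.rTensor_tmul, LinearMap.rTensor_tmul, AlgHom.toLinearMap_apply, hΦ, fieldOrbit_apply]
        induction HopfRep.Comod.coact (k := k) (A := A) a using TensorProduct.induction_on with
        | zero => simp
        | tmul p q => simp
        | add p q hp hq => simp only [map_add, TensorProduct.add_tmul, hp, hq]
    apply (TensorProduct.assoc k K A A).injective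
    rw [key, hc, map_zero]
    have h0 : y.toLinearMap.rTensor A (HopfRep.Comod.coact (k := k) (A := A) g) = 0 := by
      rw [← fieldOrbit_apply]; exact hg
    have key2 : ∀ z : R ⊗[k] A, y.toLinearMap.rTensor (A ⊗[k] A) ((Coalgebra.comul (R := k) (A := A)).lTensor R z) =
        (Coalgebra.comul (R := k) (A := A)).lTensor K (y.toLinearMap.rTensor A z) := fun z => by
      induction z using TensorProduct.induction_on with
      | zero => simp
      | tmul a b => simp
      | add p q hp hq => simp only [map_add, hp, hq]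
    rw [key2, h0, map_zero]
  have himg : HopfRep.IsSubcomod (k := k) (A := A) (J.map φ.toLinearMap) := by
    rintro _ ⟨g, hg, rfl⟩
    obtain ⟨z, hz⟩ := hJ g hg
    refine ⟨(φ.toLinearMap.submoduleMap J).rTensor A z, ?_⟩
    rw [show HopfRep.Comod.coact (k := k) (A := A) (φ.toLinearMap g) = φ.toLinearMap.rTensor A (HopfRep.Comod.coact (k := k) (A := A) g) from
      LinearMap.congr_fun (isComodHom_orbitHom (A := A) x) g, ← hz, ← LinearMap.comp_apply, ← LinearMap.comp_apply,
      ← LinearMap.rTensor_comp, ← LinearMap.rTensor_comp]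
    rfl
  have hne : J.map φ.toLinearMap ≠ ⊥ := (Submodule.ne_bot_iff _).2 ⟨φ f, ⟨f, hf, rfl⟩, hfφ⟩
  obtain ⟨g, hg, hg1⟩ := one_mem_of_subcomod hU _ himg hne
  have h0 : Φ (g - 1) = 0 := hle (by rw [RingHom.mem_ker, map_sub, map_one]; exact sub_eq_zero.2 hg1)
  rw [map_sub, map_one, show Φ g = 0 from hg, zero_sub, neg_eq_zero] at h0
  haveI : Nontrivial A := ⟨1, 0, fun h => by simpa using congrArg (Coalgebra.counit (R := k)) h⟩
  haveI : Nontrivial (K ⊗[k] A) :=
    (Algebra.TensorProduct.includeRight_injective (A := K) (B := A) (algebraMap k K).injective).nontrivial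
  exact one_ne_zero h0

/-- Two ring maps with a common prime below have compatible points in a field. -/
theorem exists_field_points {R A₁ A₂ : Type u} [CommRing R] [CommRing A₁] [CommRing A₂] (f₁ : R →+* A₁) (f₂ : R →+* A₂)
    (P₁ : Ideal A₁) [P₁.IsPrime] (P₂ : Ideal A₂) [P₂.IsPrime] (h : P₁.comap f₁ = P₂.comap f₂) :
    ∃ (L : Type u) (_ : Field L) (e₁ : A₁ →+* L) (e₂ : A₂ →+* L), e₁.comp f₁ = e₂.comp f₂ := by
  letI := f₁.toAlgebra
  letI := f₂.toAlgebra
  let p := P₁.comap f₁
  haveI : Nontrivial (p.ResidueField ⊗[R] A₁) :=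
    (PrimeSpectrum.nontrivial_iff_mem_rangeComap ⟨p, inferInstance⟩).2 ⟨⟨P₁, inferInstance⟩, rfl⟩
  haveI : Nontrivial (p.ResidueField ⊗[R] A₂) :=
    (PrimeSpectrum.nontrivial_iff_mem_rangeComap ⟨p, inferInstance⟩).2 ⟨⟨P₂, inferInstance⟩, PrimeSpectrum.ext h.symm⟩
  let T := (p.ResidueField ⊗[R] A₁) ⊗[p.ResidueField] (p.ResidueField ⊗[R] A₂)
  haveI : Nontrivial T :=
    (Algebra.TensorProduct.includeRight_injective (A := p.ResidueField ⊗[R] A₁) (B := p.ResidueField ⊗[R] A₂)
      (RingHom.injective (algebraMap p.ResidueField (p.ResidueField ⊗[R] A₁)))).nontrivial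
  obtain ⟨m, hm⟩ := Ideal.exists_maximal T
  letI := Ideal.Quotient.field m
  refine ⟨T ⧸ m, inferInstance,
    (Ideal.Quotient.mk m).comp (Algebra.TensorProduct.includeLeftRingHom.comp Algebra.TensorProduct.includeRight.toRingHom),
    (Ideal.Quotient.mk m).comp (Algebra.TensorProduct.includeRight.toRingHom.comp Algebra.TensorProduct.includeRight.toRingHom), ?_⟩
  refine RingHom.ext fun r => ?_
  refine congrArg (Ideal.Quotient.mk m) ?_
  show Algebra.TensorProduct.includeLeftRingHom ((Algebra.TensorProduct.includeRight : A₁ →ₐ[R] p.ResidueField ⊗[R] A₁) (algebraMap R A₁ r)) =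
    Algebra.TensorProduct.includeRight ((Algebra.TensorProduct.includeRight : A₂ →ₐ[R] p.ResidueField ⊗[R] A₂) (algebraMap R A₂ r))
  rw [AlgHom.commutes, AlgHom.commutes, Algebra.TensorProduct.algebraMap_apply, Algebra.TensorProduct.algebraMap_apply]
  exact Algebra.TensorProduct.algebraMap_apply' (R := p.ResidueField) (algebraMap R p.ResidueField r)

/-- Orbits of a unipotent affine group on an affine scheme are closed. -/
theorem isClosedOrbit_of_isUnipotent (hU : HopfRep.IsUnipotent k A) (x : R →ₐ[k] k) :
    GLin.IsClosedOrbit k A x := by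
  set φ := orbitHom k A x with hφ
  suffices Set.range (PrimeSpectrum.comap φ.toRingHom) = PrimeSpectrum.zeroLocus (RingHom.ker φ : Set R) by
    show IsClosed _
    rw [← hφ, this]
    exact PrimeSpectrum.isClosed_zeroLocus _
  refine Set.Subset.antisymm ?_ fun q hq => ?_
  · rintro _ ⟨P, rfl⟩ f hf
    show φ f ∈ P.asIdeal
    rw [show φ f = 0 from hf]; exact P.asIdeal.zero_mem
  · let K := FractionRing (R ⧸ q.asIdeal)
    let y : R →ₐ[k] K := (IsScalarTower.toAlgHom k (R ⧸ q.asIdeal) K).comp (Ideal.Quotient.mkₐ k q.asIdeal)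
    have hky : RingHom.ker y = q.asIdeal := by
      ext f
      simp only [RingHom.mem_ker, y, AlgHom.comp_apply, IsScalarTower.toAlgHom_apply,
        map_eq_zero_iff _ (IsFractionRing.injective (R ⧸ q.asIdeal) K)]
      exact Ideal.Quotient.eq_zero_iff_mem
    have hy : RingHom.ker φ ≤ RingHom.ker y := by rw [hky]; exact hq
    set Φ := fieldOrbit A y with hΦ
    let ψ : R →ₐ[k] K ⊗[k] A := (Algebra.TensorProduct.includeRight : A →ₐ[k] K ⊗[k] A).comp φ
    have hkψ : RingHom.ker ψ = RingHom.ker φ := by
      ext f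
      exact map_eq_zero_iff _ (Algebra.TensorProduct.includeRight_injective (algebraMap k K).injective)
    obtain ⟨p, hp, -⟩ := Ideal.exists_minimalPrimes_le (I := RingHom.ker φ) (J := q.asIdeal) hq
    obtain ⟨P₁, hP₁, hP₁c⟩ := Ideal.exists_comap_eq_of_mem_minimalPrimes ψ.toRingHom (I := (⊥ : Ideal (K ⊗[k] A))) p
      (by rw [← RingHom.ker_eq_comap_bot]; exact hkψ.symm ▸ hp)
    obtain ⟨P₂, hP₂, hP₂c⟩ := Ideal.exists_comap_eq_of_mem_minimalPrimes Φ.toRingHom (I := (⊥ : Ideal (K ⊗[k] A))) p
      (by rw [← RingHom.ker_eq_comap_bot]; exact (ker_fieldOrbit hU x y hy).symm ▸ hp)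
    haveI := hP₁
    haveI := hP₂
    obtain ⟨L, _, e₁, e₂, he⟩ := exists_field_points ψ.toRingHom Φ.toRingHom P₁ P₂ (hP₁c.2.trans hP₂c.2.symm)
    letI : Algebra k L := (e₁.comp (algebraMap k (K ⊗[k] A))).toAlgebra
    have hc₂ : ∀ c : k, e₂ (algebraMap k (K ⊗[k] A) c) = algebraMap k L c := fun c => by
      have := RingHom.congr_fun he (algebraMap k R c)
      simp only [RingHom.comp_apply, AlgHom.toRingHom_eq_coe, RingHom.coe_coe, AlgHom.commutes] at this
      exact this.symm
    let E₁ : K ⊗[k] A →ₐ[k] L := { e₁ with commutes' := fun c => rfl }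
    let E₂ : K ⊗[k] A →ₐ[k] L := { e₂ with commutes' := hc₂ }
    let g : A →ₐ[k] L := E₁.comp Algebra.TensorProduct.includeRight
    let h : A →ₐ[k] L := E₂.comp Algebra.TensorProduct.includeRight
    let ι' : K →ₐ[k] L := E₂.comp Algebra.TensorProduct.includeLeft
    let l : A →ₐ[k] L := (Algebra.TensorProduct.lift g (h.comp (HopfAlgebra.antipodeAlgHom k A))
      (fun _ _ => Commute.all _ _)).comp (Bialgebra.comulAlgHom k A)
    have hl : ∀ f, l (φ f) = ι' (y f) := fun f => by
      let M : R ⊗[k] (A ⊗[k] A) →ₗ[k] L := TensorProduct.lift ((LinearMap.mul k L).compl₁₂ (ι'.comp y).toLinearMap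
        (h.toLinearMap ∘ₗ LinearMap.mul' k A ∘ₗ (HopfAlgebra.antipode k).lTensor A))
      have hM : ∀ (a : R) (b c : A), M (a ⊗ₜ (b ⊗ₜ c)) = ι' (y a) * (h b * h (HopfAlgebra.antipode k c)) := fun a b c => by
        simp [M]
      have hE : ∀ a : R, g (φ a) = (Algebra.TensorProduct.lift (ι'.comp y) h (fun _ _ => Commute.all _ _))
          (HopfRep.Comod.coact (k := k) (A := A) a) := fun a => by
        refine (RingHom.congr_fun he a).trans ?_
        show E₂ (Φ a) = _
        rw [hΦ, fieldOrbit_apply]
        induction HopfRep.Comod.coact (k := k) (A := A) a using TensorProduct.induction_on with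
        | zero => simp
        | add p q hp hq => simp only [map_add, hp, hq]
        | tmul p q => simp [ι', h, ← map_mul]
      have step : ∀ z : R ⊗[k] A, (Algebra.TensorProduct.lift g (h.comp (HopfAlgebra.antipodeAlgHom k A))
          (fun _ _ => Commute.all _ _)) (φ.toLinearMap.rTensor A z) =
          M (TensorProduct.assoc k R A A ((HopfRep.Comod.coact (k := k) (A := A)).rTensor A z)) := fun z => by
        induction z using TensorProduct.induction_on with
        | zero => simp
        | add p q hp hq => simp only [map_add, hp, hq]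
        | tmul a b =>
          rw [LinearMap.rTensor_tmul, LinearMap.rTensor_tmul, AlgHom.toLinearMap_apply, Algebra.TensorProduct.lift_tmul, hE]
          induction HopfRep.Comod.coact (k := k) (A := A) a using TensorProduct.induction_on with
          | zero => simp
          | add p q hp hq => simp only [map_add, TensorProduct.add_tmul, add_mul, hp, hq]
          | tmul p q => rw [TensorProduct.assoc_tmul, hM, Algebra.TensorProduct.lift_tmul, mul_assoc]; rfl
      have step2 : ∀ z : R ⊗[k] A, M ((Coalgebra.comul (R := k) (A := A)).lTensor R z) =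
          ι' (y (TensorProduct.rid k R ((Coalgebra.counit (R := k) (A := A)).lTensor R z))) := fun z => by
        induction z using TensorProduct.induction_on with
        | zero => simp
        | add p q hp hq => simp only [map_add, hp, hq]
        | tmul a b =>
          rw [LinearMap.lTensor_tmul, LinearMap.lTensor_tmul, TensorProduct.rid_tmul, map_smul, map_smul, Algebra.smul_def]
          show TensorProduct.lift _ _ = _
          rw [TensorProduct.lift.tmul, LinearMap.compl₁₂_apply, LinearMap.mul_apply', LinearMap.comp_apply,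
            LinearMap.comp_apply, HopfAlgebra.mul_antipode_lTensor_comul_apply, AlgHom.toLinearMap_apply,
            AlgHom.toLinearMap_apply, AlgHom.commutes, mul_comm]
          rfl
      have h0 := congrArg (fun z => (Algebra.TensorProduct.lift g (h.comp (HopfAlgebra.antipodeAlgHom k A))
          (fun _ _ => Commute.all _ _)) z) (LinearMap.congr_fun (isComodHom_orbitHom (A := A) x) f)
      refine h0.trans ((step _).trans ?_)
      have hc := LinearMap.congr_fun (HopfRep.Comod.coassoc (k := k) (A := A) (V := R)) f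
      simp only [LinearMap.comp_apply, LinearEquiv.coe_coe] at hc
      rw [hc, step2]
      have h2 := congrArg (TensorProduct.rid k R) (LinearMap.congr_fun (HopfRep.Comod.counit_comp (k := k) (A := A) (V := R)) f)
      simp only [LinearMap.comp_apply, LinearMap.flip_apply, TensorProduct.mk_apply, TensorProduct.rid_tmul, one_smul] at h2
      rw [h2]
    refine ⟨⟨RingHom.ker l, RingHom.ker_isPrime _⟩, PrimeSpectrum.ext ?_⟩
    ext f
    show l (φ f) = 0 ↔ f ∈ q.asIdeal
    rw [hl, map_eq_zero ι']
    exact SetLike.ext_iff.1 hky f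

end Groth.Agent.ComodLib
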